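import Cfsg.Agent.Lib.Walter.JRCore.Cores

/-!
# Section C: the cores are trivial in the balanced case of Janko–Ree type

`propJRCore`.  With `p ∣ |F(W)|`, `Y = ZJ(T)` for a Sylow `p`-subgroup `T` of
`C_R(O_{p'}(F(R)))` is normalised by `H` and by `N(W) ≥ N(S)`.
Owner: helper87 (`notes/walter_plan.md`, section C).
-/

set_option autoImplicit false
set_option linter.style.haveILetI false
set_option linter.unusedSectionVars false

universe u

namespace Cfsg.Agent.Lib.Walter.JRCore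

open Subgroup

variable {G : Type u} [Group G] [Finite G]

/-- `C_K(O_{p'}(F(K)))`, as a subgroup of `G`. -/
def primeCent (p : ℕ) (K : Subgroup G) : Subgroup G :=
  K ⊓ ⨅ q : {q : ℕ // q.Prime ∧ q ≠ p}, centralizer (Cfsg.pCoreOf (q : ℕ) K : Set G)

theorem mem_primeCent {p : ℕ} {K : Subgroup G} {x : G} :
    x ∈ primeCent p K ↔
      x ∈ K ∧ ∀ q : ℕ, q.Prime → q ≠ p → ∀ u ∈ Cfsg.pCoreOf q K, u * x = x * u := by
  constructor
  · intro h
    exact ⟨h.1, fun q hq hqp u hu => mem_centralizer_iff.1 (mem_iInf.1 h.2 ⟨q, hq, hqp⟩) u hu⟩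
  · rintro ⟨h1, h2⟩
    exact ⟨h1, mem_iInf.2 fun q => mem_centralizer_iff.2 (h2 q q.2.1 q.2.2)⟩

theorem normalizer_le_normalizer_primeCent (p : ℕ) (K : Subgroup G) :
    normalizer (K : Set G) ≤ normalizer (primeCent p K : Set G) := by
  intro g hg
  refine mem_normalizer_fintype fun x hx => ?_
  obtain ⟨h1, h2⟩ := mem_primeCent.1 hx
  refine mem_primeCent.2 ⟨(mem_normalizer_iff.1 hg x).1 h1, fun q hq hqp u hu => ?_⟩
  have hu' := (mem_normalizer_iff''.1 (normalizer_le_normalizer_pCoreOf q K hg) u).1 hu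
  have h3 := h2 q hq hqp _ hu'
  calc u * (g * x * g⁻¹) = g * (g⁻¹ * u * g * x) * g⁻¹ := by group
    _ = g * (x * (g⁻¹ * u * g)) * g⁻¹ := by rw [h3]
    _ = g * x * g⁻¹ * u := by group

theorem primeCent_cores (p : ℕ) (K : Subgroup G) :
    ∀ q : ℕ, q.Prime → q ≠ p → ∀ u ∈ Cfsg.pCoreOf q (primeCent p K),
      ∀ k ∈ primeCent p K, k * u = u * k := by
  intro q hq hqp u hu k hk
  have hle : Cfsg.pCoreOf q (primeCent p K) ≤ Cfsg.pCoreOf q K :=
    CharP.le_pCoreOf (CharP.isPGroup_pCoreOf q _) ((CharP.pCoreOf_le _ _).trans inf_le_left)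
      (le_normalizer.trans ((normalizer_le_normalizer_primeCent p K).trans
        (normalizer_le_normalizer_pCoreOf q _)))
  exact ((mem_primeCent.1 hk).2 q hq hqp u (hle hu)).symm

theorem Over.false_of_sig {S : Sylow 2 G} {t : G} {H : Subgroup G} (d : Over S t H)
    (hW : sig S ≠ ⊥) : False := by
  obtain ⟨p, hp, hDp⟩ := exists_pCoreOf_ne_bot d.sig_solvable hW
  haveI : Fact p.Prime := ⟨hp⟩
  set W := sig S with hWdef
  set R := Balance.coreIn 2 H with hRdef
  have hRp := d.coreR_ne_bot hDp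
  have hp2 : p ≠ 2 := by
    intro e
    obtain ⟨k, hk⟩ := IsPGroup.iff_card.1 (CharP.isPGroup_pCoreOf p W)
    rcases k with _ | k
    · exact hDp (card_eq_one.1 (by simpa using hk))
    · refine (d.ctx.sig_odd).not_two_dvd_nat ?_
      rw [← e]
      exact ((dvd_pow_self p k.succ_ne_zero).trans hk.symm.dvd).trans
        (card_dvd_of_le (CharP.pCoreOf_le _ _))
  set K := primeCent p W with hK
  set R' := primeCent p R with hR'
  have hRW : R ≤ W := d.coreIn_le_sig
  have hR'K : R' ≤ K := by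
    intro x hx
    obtain ⟨h1, h2⟩ := mem_primeCent.1 hx
    exact mem_primeCent.2 ⟨hRW h1, fun q hq hqp u hu =>
      h2 q hq hqp u (d.coreW_le hq hp hqp hRp hu)⟩
  -- `p`-elements of `K ∩ R` centralise the other cores of `R`
  have hpel : ∀ x ∈ K, x ∈ R → (∃ k : ℕ, x ^ p ^ k = 1) → x ∈ R' := by
    intro x hx hxR hxp
    obtain ⟨hxW, hxc⟩ := mem_primeCent.1 hx
    refine mem_primeCent.2 ⟨hxR, fun q hq hqp y hy => ?_⟩
    haveI : Fact q.Prime := ⟨hq⟩
    have hyR : y ∈ R := CharP.pCoreOf_le _ _ hy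
    set z := y⁻¹ * (x * y * x⁻¹) with hz
    have hzR : z ∈ Cfsg.pCoreOf q R :=
      mul_mem (inv_mem hy) (conj_mem_of_le_normalizer (CharP.le_normalizer_pCoreOf q R hxR) hy)
    obtain ⟨k, hk⟩ := (CharP.isPGroup_pCoreOf q R) ⟨z, hzR⟩
    have hzk : z ^ q ^ k = 1 := congrArg Subtype.val hk
    have hzW : z ∈ W := hRW (CharP.pCoreOf_le _ _ hzR)
    have hzK : z ∈ K := by
      rw [hz, show y⁻¹ * (x * y * x⁻¹) = (y⁻¹ * x * y) * x⁻¹ by group]
      refine mul_mem ?_ (inv_mem hx)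
      exact (mem_normalizer_iff''.1 (normalizer_le_normalizer_primeCent p W
        (le_normalizer (hRW hyR))) x).1 hx
    have hzD : z ∈ Cfsg.pCoreOf q W := by
      refine mem_pCoreOf_of_centralizes d.sig_solvable hzW ⟨k, hzk⟩ fun r hr u hu => ?_
      by_cases hrq : r = q
      · exact ((mem_primeCent.1 hzK).2 r hr (hrq ▸ hqp) u hu).symm
      · exact d.commute_cores hr hq hrq hzR hu
    have hzx : x * z = z * x := (hxc q hq hqp z hzD).symm
    obtain ⟨j, hj⟩ := hxp
    have hcop : (orderOf x).Coprime q := by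
      obtain ⟨m, -, hm⟩ := (Nat.dvd_prime_pow hp).1 (orderOf_dvd_of_pow_eq_one hj)
      rw [hm]
      exact ((Nat.coprime_primes hp hq).2 (Ne.symm hqp)).pow_left m
    exact (CharP.commute_of_conj_eq (g := y) (c := z) (k := k) hcop
      (by rw [hz]; group) hzx hzk).eq.symm
  obtain ⟨T⟩ : Nonempty (Sylow p R') := inferInstance
  set T' := (T : Subgroup R').map R'.subtype with hT'
  have hT'R' : T' ≤ R' := map_subtype_le _
  have hT'p : IsPGroup p T' := T.2.map _
  have hR'odd : Odd (Nat.card ↥R') :=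
    (odd_coreIn H).of_dvd_nat (card_dvd_of_le inf_le_left)
  have hKodd : Odd (Nat.card ↥K) := d.ctx.sig_odd.of_dvd_nat (card_dvd_of_le inf_le_left)
  set Y := Cfsg.centerThompsonAOf T' with hY
  have hHY : H ≤ normalizer (Y : Set G) :=
    (Balance.le_normalizer_coreIn H).trans ((normalizer_le_normalizer_primeCent p R).trans
      (normalizer_le_normalizer_zj hp2 hR'odd (primeCent_cores p R) T))
  have hT'1 : T' ≠ ⊥ := by
    intro h0
    refine hRp (le_bot_iff.1 ?_)
    intro x hx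
    have hxR : x ∈ R := CharP.pCoreOf_le _ _ hx
    have hxR' : x ∈ R' := by
      refine mem_primeCent.2 ⟨hxR, fun q hq hqp u hu => ?_⟩
      haveI : Fact q.Prime := ⟨hq⟩
      have h1 : x * u * x⁻¹ * u⁻¹ ∈ Cfsg.pCoreOf p R ⊓ Cfsg.pCoreOf q R := by
        refine Subgroup.mem_inf.2 ⟨?_, mul_mem (conj_mem_of_le_normalizer (CharP.le_normalizer_pCoreOf q R hxR) hu)
          (inv_mem hu)⟩
        rw [show x * u * x⁻¹ * u⁻¹ = x * (u * x⁻¹ * u⁻¹) by group]
        exact mul_mem hx (conj_mem_of_le_normalizer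
          (CharP.le_normalizer_pCoreOf p R (CharP.pCoreOf_le _ _ hu)) (inv_mem hx))
      rw [(IsPGroup.disjoint_of_ne p q (Ne.symm hqp) _ _ (CharP.isPGroup_pCoreOf p R)
        (CharP.isPGroup_pCoreOf q R)).eq_bot, mem_bot] at h1
      exact (mul_inv_eq_iff_eq_mul.1 (mul_inv_eq_one.1 h1)).symm
    have hle : Cfsg.pCoreOf p R ⊓ R' ≤ Cfsg.pCoreOf p R' :=
      CharP.le_pCoreOf ((CharP.isPGroup_pCoreOf p R).to_le inf_le_left) inf_le_right
        ((le_inf (inf_le_left.trans (CharP.le_normalizer_pCoreOf p R)) le_normalizer).trans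
          inf_normalizer_le_normalizer_inf)
    obtain ⟨z, hz, rfl⟩ := hle ⟨hx, hxR'⟩
    rw [← h0]
    exact mem_map_of_mem _ (Cores.pCore_le_sylow T hz)
  have hNY : normalizer (Y : Set G) = H :=
    d.normalizer_eq (GorensteinWalter.centerThompsonA_ne_bot hT'p hT'1)
      ((ZJ.centerThompsonAOf_le T').trans (hT'R'.trans (inf_le_left.trans (Balance.coreIn_le H))))
      hHY
  -- `T` is a Sylow subgroup of `K`
  obtain ⟨P, hP⟩ := (hT'p.comap_subtype (K := K)).exists_le_sylow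
  have hTP : T' ≤ (P : Subgroup K).map K.subtype := fun x hx =>
    ⟨⟨x, hR'K (hT'R' hx)⟩, hP (show (x : G) ∈ T' from hx), rfl⟩
  have heq : T' = (P : Subgroup K).map K.subtype := by
    refine (lt_or_eq_of_le hTP).resolve_left fun hlt => ?_
    have hPp : IsPGroup p ((P : Subgroup K).map K.subtype) := P.2.map _
    obtain ⟨z, hz, hzT⟩ := SetLike.exists_of_lt
      (Cores.Normalizer.lt_normalizer_inf hPp.isNilpotent hlt)
    have hzH : z ∈ H := hNY.le (ZJ.normalizer_le_normalizer_centerThompsonA T' hz.1)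
    have hzK : z ∈ K := map_subtype_le _ hz.2
    have hzR' : z ∈ R' := by
      refine hpel z hzK (d.sig_inf_eq.le ⟨(mem_primeCent.1 hzK).1, hzH⟩) ?_
      obtain ⟨k, hk⟩ := hPp ⟨z, hz.2⟩
      exact ⟨k, congrArg Subtype.val hk⟩
    set M := normalizer (T' : Set G) ⊓ (P : Subgroup K).map K.subtype with hMdef
    have hM : IsPGroup p ((M ⊓ R').subgroupOf R') :=
      ((hPp.to_le inf_le_right).to_le inf_le_left).comap_subtype
    have hle : (T : Subgroup R') ≤ (M ⊓ R').subgroupOf R' := fun x hx => mem_subgroupOf.2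
      ⟨⟨le_normalizer (mem_map_of_mem _ hx), hTP (mem_map_of_mem _ hx)⟩, x.2⟩
    have h2 := T.is_maximal' hM hle
    have h3 : (⟨z, hzR'⟩ : R') ∈ (T : Subgroup R') := h2 ▸ mem_subgroupOf.2 ⟨hz, hzR'⟩
    exact hzT (mem_map_of_mem R'.subtype h3)
  -- so `N(W)` normalises `Y`
  have hfin : normalizer (W : Set G) ≤ H := by
    rw [← hNY, hY, heq]
    exact (normalizer_le_normalizer_primeCent p W).trans
      (normalizer_le_normalizer_zj hp2 hKodd (primeCent_cores p W) P)
  exact d.not_normalizer_le (d.ctx.normalizer_le_normalizer_sig.trans hfin)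

end Cfsg.Agent.Lib.Walter.JRCore

namespace Cfsg.Agent.Lib.Walter

open JRCore

/-- Section C: in the balanced case of Janko–Ree type the cores are trivial. -/
theorem propJRCore (hL : PropKnownFacts.{u}) (hP : BenderOne.PropSplit.{u}) : PropJRCore.{u} := by
  intro G _ _ hG S hJR hbal x hx hx1
  have c : Ctx S := ⟨hG, hL, hP, hJR, hbal⟩
  by_contra hne
  obtain ⟨H, d⟩ := c.exists_over hx hx1
  exact d.false_of_sig fun e => hne (le_bot_iff.1 (e ▸ core_le_sig hx hx1))

end Cfsg.Agent.Lib.Walter
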