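import Cfsg.Agent.Lib.CharP.Basic
import Cfsg.Agent.Lib.Coprime.Glauberman
import Cfsg.Agent.Lib.Cores.Normalizer
import Cfsg.Agent.Lib.GorensteinWalter.ConfSylow
import Cfsg.Agent.Lib.OddOrder.FeitThompson

/-!
# Section C: tools about groups of odd order

`ZJ` of a Sylow `p`-subgroup of a subgroup of odd order centralising its `q`-cores, `q ≠ p`.
Owner: helper87 (`notes/walter_plan.md`, section C).
-/

set_option autoImplicit false
set_option linter.style.haveILetI false
set_option linter.unusedSectionVars false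

universe u

namespace Cfsg.Agent.Lib.Walter.JRCore

open Subgroup
open scoped Pointwise

variable {G : Type u} [Group G] [Finite G]

/-- An element normalising a subgroup normalises its `p`-core. -/
theorem normalizer_le_normalizer_pCoreOf (p : ℕ) (K : Subgroup G) :
    normalizer (K : Set G) ≤ normalizer (Cfsg.pCoreOf p K : Set G) := by
  intro g hg
  have key : ∀ h ∈ normalizer (K : Set G), ∀ x ∈ Cfsg.pCoreOf p K,
      h * x * h⁻¹ ∈ Cfsg.pCoreOf p K := by
    intro h hh x hx
    have hle : (Cfsg.pCoreOf p K).map (MulAut.conj h).toMonoidHom ≤ Cfsg.pCoreOf p K := by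
      refine CharP.le_pCoreOf ((CharP.isPGroup_pCoreOf p K).map _) ?_ ?_
      · rintro _ ⟨y, hy, rfl⟩
        exact (mem_normalizer_iff.1 hh y).1 (CharP.pCoreOf_le p K hy)
      · refine le_trans ?_ (le_normalizer_map (MulAut.conj h).toMonoidHom)
        intro k hk
        refine ⟨h⁻¹ * k * h, CharP.le_normalizer_pCoreOf p K
          ((mem_normalizer_iff''.1 hh k).1 hk), ?_⟩
        simp [mul_assoc]
    exact hle (mem_map_of_mem _ hx)
  exact mem_normalizer_fintype fun x hx => key g hg x hx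

/-- An involution normalising an odd subgroup without fixed points inverts it. -/
theorem inverts_of_fixed_bot {O : Subgroup G} {s : G} (hs : s * s = 1)
    (hn : ∀ y ∈ O, s * y * s⁻¹ ∈ O) (hfix : ∀ y ∈ O, s * y = y * s → y = 1) :
    ∀ y ∈ O, s * y * s⁻¹ = y⁻¹ := by
  have hsi : s⁻¹ = s := inv_eq_of_mul_eq_one_right hs
  let f : O → O := fun x => x⁻¹ * ⟨s * x * s⁻¹, hn x x.2⟩
  have hf : Function.Injective f := by
    intro x y h
    have h1 : (x : G)⁻¹ * (s * x * s⁻¹) = (y : G)⁻¹ * (s * y * s⁻¹) := congrArg Subtype.val h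
    have h2 := hfix ((y : G) * (x : G)⁻¹) (mul_mem y.2 (inv_mem x.2)) (by
      calc s * ((y : G) * (x : G)⁻¹)
          = (s * y * s⁻¹) * ((x : G)⁻¹ * (s * x * s⁻¹))⁻¹ * (x : G)⁻¹ * s := by group
        _ = (s * y * s⁻¹) * ((y : G)⁻¹ * (s * y * s⁻¹))⁻¹ * (x : G)⁻¹ * s := by rw [h1]
        _ = (y : G) * (x : G)⁻¹ * s := by group)
    exact Subtype.ext (mul_inv_eq_one.1 h2).symm
  have hsurj := hf.bijective_of_finite.surjective
  intro y hy
  obtain ⟨x, hx⟩ := hsurj ⟨y, hy⟩
  have h1 : (x : G)⁻¹ * (s * x * s⁻¹) = y := congrArg Subtype.val hx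
  rw [← h1, hsi]
  calc s * ((x : G)⁻¹ * (s * x * s)) * s = s * (x : G)⁻¹ * s * x * (s * s) := by group
    _ = s * (x : G)⁻¹ * s * x := by rw [hs, mul_one]
    _ = ((x : G)⁻¹ * (s * x * s))⁻¹ := by
      simp only [_root_.mul_inv_rev, inv_inv, hsi, mul_assoc]

/-- An element of odd order inverted and centralised is trivial. -/
theorem eq_one_of_inverted_fixed {s d : G} (hd : Odd (orderOf d)) (hf : s * d = d * s)
    (hi : s * d * s⁻¹ = d⁻¹) : d = 1 := by
  have h : d * d = 1 := by
    have : d = d⁻¹ := by rw [← hi, hf, mul_inv_cancel_right]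
    nth_rewrite 2 [this]
    exact mul_inv_cancel d
  exact orderOf_eq_one_iff.1 (Nat.eq_one_of_dvd_coprimes (Nat.coprime_two_left.2 hd)
    (orderOf_dvd_of_pow_eq_one (by rw [pow_two, h])) dvd_rfl)

/-- In a solvable group a `q`-element centralising all the cores lies in `O_q`. -/
theorem mem_pCoreOf_of_centralizes {W : Subgroup G} (hW : Group.IsSolvable ↥W) {q : ℕ}
    [Fact q.Prime] {z : G} (hz : z ∈ W) (hzq : ∃ k : ℕ, z ^ q ^ k = 1)
    (hc : ∀ r : ℕ, r.Prime → ∀ u ∈ Cfsg.pCoreOf r W, z * u = u * z) :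
    z ∈ Cfsg.pCoreOf q W := by
  haveI := hW
  set z' : W := ⟨z, hz⟩ with hz'
  set C : Subgroup W := centralizer (Cfsg.fittingSubgroup W : Set W) with hC
  have hCF : C ≤ Cfsg.fittingSubgroup W := Cores.centralizer_fittingSubgroup_le
  haveI : (Cfsg.fittingSubgroup W).Normal := by
    rw [Cores.fittingSubgroup_eq_iSup_pCore]
    infer_instance
  haveI hCn : C.Normal := Subgroup.normal_centralizer
  have hzC : z' ∈ C := by
    rw [hC, Cores.fittingSubgroup_eq_iSup_pCore]
    have hle : (⨆ r : Nat.Primes, Cfsg.pCore (r : ℕ) W) ≤ centralizer ({z'} : Set W) :=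
      iSup_le fun r u hu => mem_centralizer_singleton_iff.2 (Subtype.ext
        (hc r r.2 _ (mem_map_of_mem _ hu)).symm)
    exact mem_centralizer_iff.2 fun u hu => mem_centralizer_singleton_iff.1 (hle hu)
  have hcomm : ∀ a ∈ C, ∀ b ∈ C, a * b = b * a := fun a ha b hb =>
    (mem_centralizer_iff.1 ha b (hCF hb)).symm
  have hzle : zpowers z' ≤ C := zpowers_le.2 hzC
  haveI : ((zpowers z').subgroupOf C).Normal := ⟨fun a ha g => by
    have : g * a * g⁻¹ = a := by
      rw [show g * a = a * g from Subtype.ext (hcomm g g.2 a a.2), mul_inv_cancel_right]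
    rw [this]; exact ha⟩
  have hsn : (zpowers z').IsSubnormal :=
    Subgroup.IsSubnormal.step _ C hzle (Subgroup.Normal.isSubnormal hCn) inferInstance
  have hp : IsPGroup q (zpowers z') := by
    obtain ⟨k, hk⟩ := hzq
    rintro ⟨a, ha⟩
    obtain ⟨i, rfl⟩ := mem_zpowers_iff.1 ha
    refine ⟨k, Subtype.ext (Subtype.ext ?_)⟩
    show ((z ^ i) ^ q ^ k : G) = 1
    rw [← zpow_natCast, ← zpow_mul, mul_comm, zpow_mul, zpow_natCast, hk, one_zpow]
  exact ⟨z', Cores.IsSubnormal.le_pCore hsn hp (mem_zpowers z'), rfl⟩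

/-- A non-trivial solvable subgroup has a non-trivial core. -/
theorem exists_pCoreOf_ne_bot {W : Subgroup G} (hW : Group.IsSolvable ↥W) (h : W ≠ ⊥) :
    ∃ p : ℕ, p.Prime ∧ Cfsg.pCoreOf p W ≠ ⊥ := by
  haveI := hW
  haveI := (nontrivial_iff_ne_bot W).2 h
  by_contra hc
  push Not at hc
  refine Cores.fittingSubgroup_ne_bot (G := W) ?_
  rw [Cores.fittingSubgroup_eq_iSup_pCore]
  exact iSup_eq_bot.2 fun r => (map_eq_bot_iff_of_injective _ W.subtype_injective).1 (hc r r.2)

/-- `ZJ` of a Sylow subgroup is normal in a group of odd order centralising its other cores. -/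
theorem zj_normal_of_cores {X : Type u} [Group X] [Finite X] {p : ℕ} [Fact p.Prime] (hp2 : p ≠ 2)
    (hodd : Odd (Nat.card X))
    (hc : ∀ q : ℕ, q.Prime → q ≠ p → Cfsg.pCore q X ≤ Subgroup.center X) (T : Sylow p X) :
    (Cfsg.centerThompsonAOf (T : Subgroup X)).Normal := by
  haveI : Fact (Nat.Prime 2) := ⟨Nat.prime_two⟩
  haveI hsol : Group.IsSolvable X := OddOrder.FeitThompson.isSolvable_of_odd_card hodd
  set M := Cfsg.pPrimeCore p X with hM
  haveI : M.Normal := by rw [hM]; infer_instance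
  have hpM : ¬ p ∣ Nat.card M := Cores.not_dvd_card_pPrimeCore p
  have hFX : Cfsg.fittingSubgroup M ≤ (Subgroup.center X).comap M.subtype := by
    rw [Cores.fittingSubgroup_eq_iSup_pCore]
    refine iSup_le fun q => ?_
    haveI : Fact (q : ℕ).Prime := ⟨q.2⟩
    intro y hy
    by_cases hqp : (q : ℕ) = p
    · obtain ⟨k, hk⟩ := IsPGroup.iff_orderOf.1 (Cores.pCore_isPGroup (G := M) (q : ℕ)) ⟨y, hy⟩
      rw [Subgroup.orderOf_mk, hqp] at hk
      have hdvd := orderOf_dvd_natCard y
      rw [hk] at hdvd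
      rcases k with _ | k
      · rw [pow_zero, orderOf_eq_one_iff] at hk
        rw [hk]; exact one_mem _
      · exact absurd ((dvd_pow_self p k.succ_ne_zero).trans hdvd) hpM
    · haveI := Cores.pCore_characteristic (G := M) (q : ℕ)
      haveI := Cores.normal_map_subtype M (Cfsg.pCore (q : ℕ) M)
      exact hc q q.2 hqp
        (Cores.le_pCore ((Cores.pCore_isPGroup (q : ℕ)).map M.subtype) (mem_map_of_mem _ hy))
  have hMc : M ≤ Subgroup.center X := fun x hx =>
    hFX (Cores.centralizer_fittingSubgroup_le (mem_centralizer_iff.2 fun g hg => Subtype.ext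
      (mem_center_iff.1 (hFX hg) x).symm) : (⟨x, hx⟩ : M) ∈ Cfsg.fittingSubgroup M)
  set P := Cfsg.pCore p X
  haveI : P.Normal := by
    haveI := Cores.pCore_characteristic (G := X) p
    infer_instance
  have hF : Cfsg.fittingSubgroup X ≤ P ⊔ M := by
    rw [Cores.fittingSubgroup_eq_iSup_pCore]
    refine iSup_le fun q => ?_
    by_cases hqp : (q : ℕ) = p
    · rw [hqp]; exact le_sup_left
    · refine le_trans ?_ le_sup_right
      haveI : Fact (q : ℕ).Prime := ⟨q.2⟩
      haveI := Cores.pCore_characteristic (G := X) (q : ℕ)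
      refine Cores.le_pPrimeCore_of_not_dvd ?_
      obtain ⟨k, hk⟩ := IsPGroup.iff_card.1 (Cores.pCore_isPGroup (G := X) (q : ℕ))
      rw [hk]
      exact fun h => hqp ((Nat.prime_dvd_prime_iff_eq Fact.out q.2).1
        ((Fact.out : p.Prime).dvd_of_dvd_pow h)).symm
  have hC : centralizer (P : Set X) ≤ P ⊔ M := by
    intro x hx
    refine hF (Cores.centralizer_fittingSubgroup_le (mem_centralizer_iff.2 fun y hy => ?_))
    have hle : P ⊔ M ≤ centralizer ({x} : Set X) := sup_le
      (fun a ha => mem_centralizer_singleton_iff.2 (mem_centralizer_iff.1 hx a ha))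
      (fun a ha => mem_centralizer_singleton_iff.2 (mem_center_iff.1 (hMc ha) x).symm)
    exact mem_centralizer_singleton_iff.1 (hle (hF hy))
  obtain ⟨T₂⟩ : Nonempty (Sylow 2 X) := inferInstance
  have hT₂ : IsMulCommutative (T₂ : Subgroup X) := by
    have h1 : Nat.card (T₂ : Subgroup X) = 1 := by
      obtain ⟨k, hk⟩ := IsPGroup.iff_card.1 T₂.2
      rcases k with _ | k
      · simpa using hk
      · exact absurd ((dvd_pow_self 2 k.succ_ne_zero).trans (hk ▸ card_subgroup_dvd_card _))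
          hodd.not_two_dvd_nat
    haveI := (Nat.card_eq_one_iff_unique.1 h1).1
    exact ⟨⟨fun _ _ => Subsingleton.elim _ _⟩⟩
  have h := GorensteinWalter.sup_normalizer_zj hp2 (PLocal.noSLTwo_of_abelian_sylow_two hp2 T₂ hT₂)
    P (Cores.pCore_isPGroup p) hC T
  rw [← normalizer_eq_top_iff, eq_top_iff, ← h]
  refine sup_le ?_ le_rfl
  intro y hy
  exact mem_normalizer_fintype fun z hz => by
    rw [(mem_center_iff.1 (hMc hy) z).symm, mul_inv_cancel_right]; exact hz

/-- Frattini form: `N(K)` normalises `ZJ(T)`. -/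
theorem normalizer_le_normalizer_zj {K : Subgroup G} {p : ℕ} [Fact p.Prime] (hp2 : p ≠ 2)
    (hodd : Odd (Nat.card K))
    (hc : ∀ q : ℕ, q.Prime → q ≠ p → ∀ u ∈ Cfsg.pCoreOf q K, ∀ k ∈ K, k * u = u * k)
    (T : Sylow p K) :
    normalizer (K : Set G) ≤
      normalizer (Cfsg.centerThompsonAOf ((T : Subgroup K).map K.subtype) : Set G) := by
  have hn := zj_normal_of_cores hp2 hodd (fun q hq hqp u hu =>
    mem_center_iff.2 fun k => Subtype.ext (hc q hq hqp _ (mem_map_of_mem _ hu) k k.2)) T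
  set T' := (T : Subgroup K).map K.subtype with hT'
  set Y := Cfsg.centerThompsonAOf T'
  have hK : K ≤ normalizer (Y : Set G) := by
    intro k hk
    rw [show Y = _ from (ZJ.map_centerThompsonAOf K.subtype K.subtype_injective _).symm]
    exact le_normalizer_map K.subtype ⟨⟨k, hk⟩, (normalizer_eq_top_iff.2 hn) ▸ mem_top _, rfl⟩
  intro g hg
  have hle : T'.map (MulAut.conj g).toMonoidHom ≤ K := by
    rintro _ ⟨y, hy, rfl⟩
    exact (mem_normalizer_iff.1 hg y).1 (map_subtype_le _ hy)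
  obtain ⟨Q, hQ⟩ := Coprime.exists_sylow_of_card (p := p) hle (by
    rw [card_map_of_injective (MulAut.conj g).injective, hT', Coprime.card_sylow_map])
  obtain ⟨k, hk, hkT⟩ := Coprime.exists_conj_sylow_map T Q
  rw [hQ] at hkT
  have hkg : k⁻¹ * g ∈ normalizer (T' : Set G) := by
    refine mem_normalizer_fintype fun y hy => ?_
    have h1 : g * y * g⁻¹ ∈ MulAut.conj k • T' := hkT.symm ▸ ⟨y, hy, rfl⟩
    obtain ⟨w, hw, hwe⟩ := h1
    have hwe' : k * w * k⁻¹ = g * y * g⁻¹ := hwe
    have : k⁻¹ * g * y * (k⁻¹ * g)⁻¹ = w := by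
      calc k⁻¹ * g * y * (k⁻¹ * g)⁻¹ = k⁻¹ * (g * y * g⁻¹) * k := by group
        _ = w := by rw [← hwe']; group
    show k⁻¹ * g * y * (k⁻¹ * g)⁻¹ ∈ T'
    rw [this]; exact hw
  have := mul_mem (hK hk) (ZJ.normalizer_le_normalizer_centerThompsonA T' hkg)
  rwa [← mul_assoc, mul_inv_cancel, one_mul] at this

end Cfsg.Agent.Lib.Walter.JRCore
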