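import Cfsg.Agent.Lib.Walter.MonoBase
import Cfsg.Agent.Lib.Walter.JRBalance.Frame
import Cfsg.Agent.Lib.Involutions.Basic

/-!
# Section C: a proper subgroup containing `S` modulo its odd core

Owner: helper87 (`notes/walter_plan.md`, section C).
-/

set_option autoImplicit false
set_option linter.style.haveILetI false
set_option linter.unusedSectionVars false

universe u

namespace Cfsg.Agent.Lib.Walter.JRCore

open Subgroup

variable {G : Type u} [Group G] [Finite G] {S : Sylow 2 G} {C : Subgroup G}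

/-- `C` modulo its odd core. -/
abbrev Quo (C : Subgroup G) : Type u := ↥C ⧸ Cfsg.oddCore ↥C

/-- The projection. -/
abbrev qm (C : Subgroup G) : ↥C →* Quo C := QuotientGroup.mk' _

theorem qm_surjective (C : Subgroup G) : Function.Surjective (qm C) :=
  QuotientGroup.mk'_surjective _

theorem qm_eq_one_iff {x : G} (hx : x ∈ C) : qm C ⟨x, hx⟩ = 1 ↔ x ∈ Balance.coreIn 2 C := by
  rw [QuotientGroup.mk'_apply, QuotientGroup.eq_one_iff]
  constructor
  · exact fun h => ⟨⟨x, hx⟩, h, rfl⟩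
  · rintro ⟨y, hy, he⟩
    have hy' : y = (⟨x, hx⟩ : ↥C) := Subtype.ext he
    rwa [hy'] at hy

theorem odd_coreIn (C : Subgroup G) : Odd (Nat.card ↥(Balance.coreIn 2 C)) :=
  Nat.coprime_two_right.1 (Balance.coreIn_coprime (p := 2) C)

theorem goodQuo (h : Hyp G) (hL : PropKnownFacts.{u}) (hC : C ≠ ⊤) : Pairs.Good (Quo C) where
  core := Cores.pPrimeCore_quotient_pPrimeCore 2
  abelian := fun P => by
    haveI : Fact (Nat.Prime 2) := ⟨Nat.prime_two⟩
    obtain ⟨T, hT⟩ := Sylow.mapSurjective_surjective (qm_surjective C) 2 P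
    obtain ⟨U, hU⟩ := (T.2.map C.subtype).exists_le_sylow
    haveI := h.abelian U
    refine ⟨⟨fun x y => Subtype.ext ?_⟩⟩
    obtain ⟨x, hx⟩ := x
    obtain ⟨y, hy⟩ := y
    rw [← hT, Sylow.coe_mapSurjective] at hx hy
    obtain ⟨a, ha, rfl⟩ := hx
    obtain ⟨b, hb, rfl⟩ := hy
    show qm C a * qm C b = qm C b * qm C a
    rw [← map_mul, ← map_mul]
    exact congrArg _ (Subtype.ext
      (setLike_mul_comm (s := (U : Subgroup G)) (hU (mem_map_of_mem _ ha)) (hU (mem_map_of_mem _ hb))))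
  known := fun K hK hs => by
    refine hL.1 K (h.proper _ hC _ K hs fun hc => ?_)
    exact Components.Component.not_isMulCommutative hK hc

/-- The image of `S`. -/
noncomputable def quoSylow (hSC : (S : Subgroup G) ≤ C) : Sylow 2 (Quo C) :=
  haveI : Fact (Nat.Prime 2) := ⟨Nat.prime_two⟩
  (S.subtype hSC).mapSurjective (qm_surjective C)

theorem mem_quoSylow (hSC : (S : Subgroup G) ≤ C) {y : Quo C} :
    y ∈ (quoSylow hSC : Subgroup (Quo C)) ↔
      ∃ x : ↥C, (x : G) ∈ (S : Subgroup G) ∧ qm C x = y := by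
  haveI : Fact (Nat.Prime 2) := ⟨Nat.prime_two⟩
  rw [quoSylow, Sylow.coe_mapSurjective, Subgroup.mem_map]
  rfl

theorem qm_mem_quoSylow (hSC : (S : Subgroup G) ≤ C) {x : G} (hx : x ∈ (S : Subgroup G)) :
    qm C ⟨x, hSC hx⟩ ∈ (quoSylow hSC : Subgroup (Quo C)) :=
  (mem_quoSylow hSC).2 ⟨_, hx, rfl⟩

theorem eq_one_of_mem_coreIn {x : G} (hx : x ∈ (S : Subgroup G)) (h : x ∈ Balance.coreIn 2 C) :
    x = 1 := by
  haveI : Fact (Nat.Prime 2) := ⟨Nat.prime_two⟩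
  obtain ⟨k, hk⟩ := IsPGroup.iff_orderOf.1 S.2 ⟨x, hx⟩
  rw [Subgroup.orderOf_mk] at hk
  exact orderOf_eq_one_iff.1 (Nat.eq_one_of_dvd_coprimes
    ((Nat.coprime_two_left.2 (odd_coreIn C)).pow_left k) hk.dvd
    (Subgroup.orderOf_dvd_natCard _ h))

theorem qm_ne_one (hSC : (S : Subgroup G) ≤ C) {x : G} (hx : x ∈ (S : Subgroup G)) (h1 : x ≠ 1) :
    qm C ⟨x, hSC hx⟩ ≠ 1 :=
  fun e => h1 (eq_one_of_mem_coreIn hx ((qm_eq_one_iff (hSC hx)).1 e))

theorem qm_injective_sylow (hSC : (S : Subgroup G) ≤ C) {x y : G} (hx : x ∈ (S : Subgroup G))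
    (hy : y ∈ (S : Subgroup G)) (he : qm C ⟨x, hSC hx⟩ = qm C ⟨y, hSC hy⟩) : x = y := by
  have hxy : x⁻¹ * y ∈ (S : Subgroup G) := mul_mem (inv_mem hx) hy
  refine inv_mul_eq_one.1 (eq_one_of_mem_coreIn (C := C) hxy ((qm_eq_one_iff (hSC hxy)).1 ?_))
  have e : (⟨x⁻¹ * y, hSC hxy⟩ : ↥C) = ⟨x, hSC hx⟩⁻¹ * ⟨y, hSC hy⟩ := rfl
  rw [e, map_mul, map_inv, he, inv_mul_cancel]

theorem eightQuo (hSC : (S : Subgroup G) ≤ C) (hsq : ∀ a ∈ (S : Subgroup G), a * a = 1)
    (hcard : Nat.card ↥(S : Subgroup G) = 8) : JRBal.Eight (quoSylow hSC) where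
  card := by
    haveI : Fact (Nat.Prime 2) := ⟨Nat.prime_two⟩
    rw [← hcard]
    let f : ↥(S : Subgroup G) → ↥(quoSylow hSC : Subgroup (Quo C)) := fun x =>
      ⟨qm C ⟨x, hSC x.2⟩, qm_mem_quoSylow hSC x.2⟩
    refine (Nat.card_congr (Equiv.ofBijective f ⟨fun x y he => ?_, fun y => ?_⟩)).symm
    · exact Subtype.ext (qm_injective_sylow hSC x.2 y.2 (congrArg Subtype.val he))
    · obtain ⟨x, hx, hxy⟩ := (mem_quoSylow hSC).1 y.2
      exact ⟨⟨x, hx⟩, Subtype.ext hxy⟩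
  sq := fun a ha => by
    obtain ⟨x, hx, rfl⟩ := (mem_quoSylow hSC).1 ha
    rw [← map_mul, show x * x = 1 from Subtype.ext (hsq _ hx), map_one]

/-- An element commuting modulo the core with an element of `S` comes from a centraliser. -/
theorem exists_commute_lift (hSC : (S : Subgroup G) ≤ C) {b : G} (hb : b ∈ (S : Subgroup G))
    {y : G} (hy : y ∈ C)
    (he : qm C ⟨b, hSC hb⟩ * qm C ⟨y, hy⟩ = qm C ⟨y, hy⟩ * qm C ⟨b, hSC hb⟩) :
    ∃ x : ↥C, (x : G) * b = b * x ∧ qm C x = qm C ⟨y, hy⟩ := by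
  haveI : Fact (Nat.Prime 2) := ⟨Nat.prime_two⟩
  set N := Balance.coreIn 2 C with hN
  have hbC : zpowers b ≤ C := zpowers_le.2 (hSC hb)
  obtain ⟨j, hj⟩ := IsPGroup.iff_card.1 (S.2.to_le (zpowers_le.2 hb))
  have hcop : (Nat.card ↥(zpowers b)).Coprime (Nat.card ↥N) := by
    rw [hj]
    exact (Nat.coprime_two_left.2 (odd_coreIn C)).pow_left j
  obtain ⟨n, hn, hnx⟩ := Coprime.exists_fixed_mul (A := zpowers b) (N := N)
    (hbC.trans (Balance.le_normalizer_coreIn C)) hcop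
    (Or.inr (OddOrder.FeitThompson.isSolvable_of_odd_card (odd_coreIn C))) (k := y) fun a ha => by
      obtain ⟨i, rfl⟩ := mem_zpowers_iff.1 ha
      have hbi : b ^ i ∈ C := hbC ha
      refine (qm_eq_one_iff (mul_mem (mul_mem (mul_mem hbi hy) (inv_mem hbi)) (inv_mem hy))).1 ?_
      show qm C (⟨b, hSC hb⟩ ^ i * ⟨y, hy⟩ * (⟨b, hSC hb⟩ ^ i)⁻¹ * ⟨y, hy⟩⁻¹) = 1
      rw [map_mul, map_mul, map_mul, map_inv, map_inv, map_zpow,
        ((show Commute (qm C ⟨b, hSC hb⟩) (qm C ⟨y, hy⟩) from he).zpow_left i).eq,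
        mul_inv_cancel_right, mul_inv_cancel]
  have hnC : n ∈ C := Balance.coreIn_le C hn
  refine ⟨⟨n, hnC⟩ * ⟨y, hy⟩, (mem_centralizer_iff.1 hnx b (mem_zpowers b)).symm, ?_⟩
  rw [map_mul, (qm_eq_one_iff hnC).2 hn, one_mul]

/-- A central involution with a component puts us in the central case. -/
theorem central_of {X : Type u} [Group X] [Finite X] {T : Sylow 2 X} (hX : Pairs.Good X)
    (h8 : JRBal.Eight T) (hL : PropKnownFacts.{u}) {t : X} (ht : t ∈ (T : Subgroup X)) (ht1 : t ≠ 1)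
    (hc : t ∈ Subgroup.center X) {K : Subgroup X} (hK : Cfsg.IsComponent K) (hkn : IsKnownA ↥K) :
    JRBal.Central T t K := by
  rcases JRBal.card_inf_cases hX h8 hK with ⟨h4, -⟩ | ⟨h8', -⟩
  · have ho := JRBal.oddType hX hK hkn T h4
    exact ⟨hX, h8, hK, ht, ht1, hc, ho, hL.2 _ ho⟩
  · exfalso
    have he := eq_of_le_of_card_ge (inf_le_left : (T : Subgroup X) ⊓ K ≤ T) (by rw [h8', h8.card])
    exact ht1 (hX.inf_centralizer hK ((he ▸ inf_le_right : (T : Subgroup X) ≤ K) ht)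
      (mem_centralizer_iff.2 fun k _ => mem_center_iff.1 hc k))

theorem known_component (h : Hyp G) (hC : C ≠ ⊤) {K : Subgroup (Quo C)} (hK : Cfsg.IsComponent K)
    (hX : Pairs.Good (Quo C)) : IsKnownA ↥K :=
  h.proper _ hC _ K (hX.simple hK) fun hc => Components.Component.not_isMulCommutative hK hc

end Cfsg.Agent.Lib.Walter.JRCore
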