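import Cfsg.Agent.Lib.Walter.JRCore.Local

/-!
# Section C: the prime cores of the signalizer and of `O(H)`

Owner: helper87 (`notes/walter_plan.md`, section C).
-/

set_option autoImplicit false
set_option linter.style.haveILetI false
set_option linter.unusedSectionVars false

universe u

namespace Cfsg.Agent.Lib.Walter.JRCore.Over

open Subgroup

variable {G : Type u} [Group G] [Finite G] {S : Sylow 2 G} {t : G} {H : Subgroup G} (d : Over S t H)
include d

theorem normalizer_eq {X : Subgroup G} (h1 : X ≠ ⊥) (hX : X ≤ H)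
    (hn : H ≤ normalizer (X : Set G)) : normalizer (X : Set G) = H := by
  refine d.max _ (fun htop => ?_) hn
  haveI := d.ctx.hyp.simple
  rcases (normalizer_eq_top_iff.1 htop).eq_bot_or_eq_top with h | h
  · exact h1 h
  · exact d.proper (top_le_iff.1 (h ▸ hX))

/-- The core `O_r(O(H))`. -/
theorem coreR_normalizer {r : ℕ} (h1 : Cfsg.pCoreOf r (Balance.coreIn 2 H) ≠ ⊥) :
    normalizer (Cfsg.pCoreOf r (Balance.coreIn 2 H) : Set G) = H :=
  d.normalizer_eq h1 ((CharP.pCoreOf_le _ _).trans (Balance.coreIn_le H))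
    ((Balance.le_normalizer_coreIn H).trans (normalizer_le_normalizer_pCoreOf _ _))

theorem sig_solvable : Group.IsSolvable ↥(sig S) :=
  OddOrder.FeitThompson.isSolvable_of_odd_card d.ctx.sig_odd

theorem inf_le_coreR (r : ℕ) : Cfsg.pCoreOf r (sig S) ⊓ Balance.coreIn 2 H ≤
    Cfsg.pCoreOf r (Balance.coreIn 2 H) :=
  CharP.le_pCoreOf ((CharP.isPGroup_pCoreOf r (sig S)).to_le inf_le_left) inf_le_right
    ((le_inf (d.coreIn_le_sig.trans (CharP.le_normalizer_pCoreOf r (sig S))) le_normalizer).trans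
      inf_normalizer_le_normalizer_inf)

/-- `t` fixes a non-trivial element of `O_r(W)`. -/
theorem inf_centralizer_ne_bot {r : ℕ} (hr : Cfsg.pCoreOf r (sig S) ≠ ⊥) :
    Cfsg.pCoreOf r (sig S) ⊓ centralizer ({t} : Set G) ≠ ⊥ := by
  intro h0
  have hS := d.ctx.comm
  set D := Cfsg.pCoreOf r (sig S) with hD
  have hN : normalizer ((S : Subgroup G) : Set G) ≤ normalizer (D : Set G) :=
    d.ctx.normalizer_le_normalizer_sig.trans (normalizer_le_normalizer_pCoreOf _ _)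
  have hDo : Odd (Nat.card ↥D) :=
    d.ctx.sig_odd.of_dvd_nat (card_dvd_of_le (CharP.pCoreOf_le _ _))
  have hinv : ∀ a ∈ Om S, a ≠ 1 → ∀ y ∈ D, a * y * a⁻¹ = y⁻¹ := by
    intro a ha ha1
    refine inverts_of_fixed_bot (sq_Om hS ha)
      (fun y hy => conj_mem_of_le_normalizer (hN (le_normalizer (Om_le S ha))) hy) fun y hy hay => ?_
    obtain ⟨n, hn, rfl⟩ := d.ctx.exists_conj d.mem d.ne ha ha1
    have h1 : n⁻¹ * y * n ∈ D ⊓ centralizer ({t} : Set G) := by
      refine ⟨by simpa using conj_mem_of_le_normalizer (inv_mem (hN hn)) hy,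
        mem_centralizer_singleton_iff.2 ?_⟩
      calc n⁻¹ * y * n * t = n⁻¹ * (y * (n * t * n⁻¹)) * n := by group
        _ = n⁻¹ * (n * t * n⁻¹ * y) * n := by rw [hay]
        _ = t * (n⁻¹ * y * n) := by group
    rw [h0, mem_bot] at h1
    calc y = n * (n⁻¹ * y * n) * n⁻¹ := by group
      _ = 1 := by rw [h1, mul_one, mul_inv_cancel]
  obtain ⟨b, hb, hb1, hbt⟩ : ∃ b ∈ Om S, b ≠ 1 ∧ b ≠ t := by
    by_contra hc
    push Not at hc
    have hle : Om S ≤ zpowers t := fun y hy => by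
      by_cases h1 : y = 1
      · exact h1 ▸ one_mem _
      · exact hc y hy h1 ▸ mem_zpowers t
    have h2 := card_le_of_le hle
    rw [d.ctx.jr.card, Nat.card_zpowers, orderOf_Om hS d.mem d.ne] at h2
    omega
  refine hr ((eq_bot_iff_forall _).2 fun y hy => ?_)
  have hne : t * b ≠ 1 := fun e => hbt (mul_left_cancel (a := t) (e.trans (sq_Om hS d.mem).symm))
  have h1 : t * b * y * (t * b)⁻¹ = y⁻¹ := hinv _ (mul_mem d.mem hb) hne y hy
  have h2 : t * b * y * (t * b)⁻¹ = y := by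
    calc t * b * y * (t * b)⁻¹ = t * (b * y * b⁻¹) * t⁻¹ := by group
      _ = (t * y * t⁻¹)⁻¹ := by rw [hinv b hb hb1 y hy]; group
      _ = y := by rw [hinv t d.mem d.ne y hy, inv_inv]
  exact eq_one_of_inverted_fixed (hDo.of_dvd_nat (Subgroup.orderOf_dvd_natCard _ hy))
    (mul_inv_eq_iff_eq_mul.1 h2) h1

/-- A prime of `F(W)` is a prime of `F(O(H))`. -/
theorem coreR_ne_bot {r : ℕ} (hr : Cfsg.pCoreOf r (sig S) ≠ ⊥) :
    Cfsg.pCoreOf r (Balance.coreIn 2 H) ≠ ⊥ := by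
  intro h0
  refine d.inf_centralizer_ne_bot hr (le_bot_iff.1 ?_)
  refine le_trans (le_inf inf_le_left ?_) ((d.inf_le_coreR r).trans h0.le)
  refine le_trans ?_ d.core_le_coreIn
  rw [← d.ctx.sig_inf d.mem d.ne]
  exact inf_le_inf_right _ (CharP.pCoreOf_le _ _)

/-- `O_s(O(H))` centralises `O_r(W)` for `s ≠ r`. -/
theorem commute_cores {r s : ℕ} (hr : r.Prime) (hs : s.Prime) (hrs : r ≠ s) {x : G}
    (hx : x ∈ Cfsg.pCoreOf s (Balance.coreIn 2 H)) {u : G} (hu : u ∈ Cfsg.pCoreOf r (sig S)) :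
    x * u = u * x := by
  haveI : Fact r.Prime := ⟨hr⟩
  haveI : Fact s.Prime := ⟨hs⟩
  by_cases hD : Cfsg.pCoreOf r (sig S) = ⊥
  · rw [hD, mem_bot] at hu
    rw [hu, mul_one, one_mul]
  set R := Balance.coreIn 2 H with hR
  have hxR : x ∈ R := CharP.pCoreOf_le _ _ hx
  have hxn := CharP.le_normalizer_pCoreOf r (sig S) (d.coreIn_le_sig hxR)
  refine CharP.commute_of_axb (B := Cfsg.pCoreOf r R) (CharP.isPGroup_pCoreOf r R) ?_ ?_
    (CharP.isPGroup_pCoreOf r (sig S))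
    (((CharP.pCoreOf_le r R).trans d.coreIn_le_sig).trans (CharP.le_normalizer_pCoreOf r (sig S)))
    hxn ?_ u hu
  · obtain ⟨k, hk⟩ := IsPGroup.iff_orderOf.1 (CharP.isPGroup_pCoreOf s R) ⟨x, hx⟩
    rw [Subgroup.orderOf_mk] at hk
    rw [hk]
    exact ((Nat.coprime_primes hs hr).2 (Ne.symm hrs)).pow_left k
  · intro b hb
    have h1 : x * b * x⁻¹ * b⁻¹ ∈ Cfsg.pCoreOf s R ⊓ Cfsg.pCoreOf r R := by
      refine Subgroup.mem_inf.2 ⟨?_, mul_mem (conj_mem_of_le_normalizer (CharP.le_normalizer_pCoreOf r R hxR) hb)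
        (inv_mem hb)⟩
      rw [show x * b * x⁻¹ * b⁻¹ = x * (b * x⁻¹ * b⁻¹) by group]
      exact mul_mem hx (conj_mem_of_le_normalizer
        (CharP.le_normalizer_pCoreOf s R (CharP.pCoreOf_le _ _ hb)) (inv_mem hx))
    rw [(IsPGroup.disjoint_of_ne s r (Ne.symm hrs) _ _ (CharP.isPGroup_pCoreOf s R)
      (CharP.isPGroup_pCoreOf r R)).eq_bot, mem_bot] at h1
    exact mul_inv_eq_iff_eq_mul.1 (mul_inv_eq_one.1 h1)
  · intro v hv hcv
    have hvH : v ∈ H := by
      rw [← d.coreR_normalizer (d.coreR_ne_bot hD)]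
      exact mem_normalizer_fintype fun b hb => by
        rw [(hcv b hb).eq, mul_inv_cancel_right]; exact hb
    have hvR : v ∈ R := d.sig_inf_eq.le ⟨CharP.pCoreOf_le _ _ hv, hvH⟩
    have hvRr := d.inf_le_coreR r ⟨hv, hvR⟩
    have h1 : x * v * x⁻¹ * v⁻¹ ∈ Cfsg.pCoreOf s R ⊓ Cfsg.pCoreOf r R := by
      refine Subgroup.mem_inf.2 ⟨?_, mul_mem (conj_mem_of_le_normalizer (CharP.le_normalizer_pCoreOf r R hxR) hvRr)
        (inv_mem hvRr)⟩
      rw [show x * v * x⁻¹ * v⁻¹ = x * (v * x⁻¹ * v⁻¹) by group]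
      exact mul_mem hx (conj_mem_of_le_normalizer
        (CharP.le_normalizer_pCoreOf s R hvR) (inv_mem hx))
    rw [(IsPGroup.disjoint_of_ne s r (Ne.symm hrs) _ _ (CharP.isPGroup_pCoreOf s R)
      (CharP.isPGroup_pCoreOf r R)).eq_bot, mem_bot] at h1
    exact mul_inv_eq_iff_eq_mul.1 (mul_inv_eq_one.1 h1)

/-- With two primes in `F(O(H))` the cores of `W` lie in those of `O(H)`. -/
theorem coreW_le {r s : ℕ} (hr : r.Prime) (hs : s.Prime) (hrs : r ≠ s)
    (hRs : Cfsg.pCoreOf s (Balance.coreIn 2 H) ≠ ⊥) :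
    Cfsg.pCoreOf r (sig S) ≤ Cfsg.pCoreOf r (Balance.coreIn 2 H) := by
  intro u hu
  refine d.inf_le_coreR r ⟨hu, d.sig_inf_eq.le ⟨CharP.pCoreOf_le _ _ hu, ?_⟩⟩
  rw [← d.coreR_normalizer hRs]
  exact mem_normalizer_fintype fun x hx => by
    rw [← d.commute_cores hr hs hrs hx hu, mul_inv_cancel_right]; exact hx

end Cfsg.Agent.Lib.Walter.JRCore.Over
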