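import Cfsg.Agent.Lib.Walter.JRCore.Quot
import Cfsg.Agent.S0217

/-!
# Section C: the signalizer

In the balanced case of Janko–Ree type `S` is elementary of order eight, `W = ⟨O(C(a))⟩` has odd
order, and no proper subgroup contains `N(S)` and the centraliser of an involution of `S`.
Owner: helper87 (`notes/walter_plan.md`, section C).
-/

set_option autoImplicit false
set_option linter.style.haveILetI false
set_option linter.unusedSectionVars false

universe u

namespace Cfsg.Agent.Lib.Walter.JRCore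

open Subgroup

variable {G : Type u} [Group G] [Finite G]

/-- The hypotheses of section C. -/
structure Ctx (S : Sylow 2 G) : Prop where
  hyp : Hyp G
  facts : PropKnownFacts.{u}
  split : BenderOne.PropSplit.{u}
  jr : CaseJR S (IsPair S)
  bal : ∀ x ∈ Om S, x ≠ 1 → ∀ y ∈ Om S, y ≠ 1 → core x ⊓ centralizer ({y} : Set G) ≤ core y

/-- The subgroup generated by the cores. -/
def sig (S : Sylow 2 G) : Subgroup G := ⨆ a : {a : G // a ∈ Om S ∧ a ≠ 1}, core (a : G)

theorem core_le_sig {S : Sylow 2 G} {a : G} (ha : a ∈ Om S) (ha1 : a ≠ 1) : core a ≤ sig S :=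
  le_iSup (fun a : {a : G // a ∈ Om S ∧ a ≠ 1} => core (a : G)) ⟨a, ha, ha1⟩

namespace Ctx

variable {S : Sylow 2 G} (c : Ctx S)
include c

theorem comm : IsMulCommutative (S : Subgroup G) := c.hyp.abelian S

theorem exists_component {a : G} (ha : a ∈ Om S) (ha1 : a ≠ 1) :
    ∃ K : Subgroup (CBar (zpowers a)), Cfsg.IsComponent K := by
  obtain ⟨W, ⟨-, -, K, hK, -, -⟩, -⟩ := c.jr.pair a ha ha1
  exact ⟨K, hK⟩

theorem exists_ne_one : ∃ a ∈ Om S, a ≠ 1 := by
  by_contra hc
  push Not at hc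
  have h := c.jr.card
  rw [(eq_bot_iff_forall (Om S)).2 hc, card_bot] at h
  omega

/-- `S` is elementary abelian. -/
theorem sylow_eq : (S : Subgroup G) = Om S := by
  haveI : Fact (Nat.Prime 2) := ⟨Nat.prime_two⟩
  have hS := c.comm
  refine le_antisymm (fun s hs => ?_) (Om_le S)
  by_contra hsA
  obtain ⟨k, hk⟩ := IsPGroup.iff_orderOf.1 S.2 ⟨s, hs⟩
  rw [Subgroup.orderOf_mk] at hk
  obtain ⟨j, rfl⟩ : ∃ j, k = j + 2 := ⟨k - 2, by
    rcases k with _ | _ | k
    · have h1 : s = 1 := orderOf_eq_one_iff.1 (by simpa using hk)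
      exact absurd (h1 ▸ one_mem _) hsA
    · exact absurd (mem_Om_of_orderOf hS hs (by simpa using hk)) hsA
    · rfl⟩
  set y := s ^ 2 ^ (j + 1) with hy
  have hyA : y ∈ Om S := (mem_Om hS).2 ⟨pow_mem hs _, by
    rw [hy, ← pow_mul, ← pow_succ, show j + 1 + 1 = j + 2 from rfl, ← hk, pow_orderOf_eq_one]⟩
  have hy1 : y ≠ 1 := pow_ne_one_of_lt_orderOf (Nat.two_pow_pos _).ne'
    (by rw [hk]; exact Nat.pow_lt_pow_right one_lt_two (by omega))
  obtain ⟨K, hK⟩ := c.exists_component hyA hy1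
  have hB : zpowers y ≤ Om S := zpowers_le.2 hyA
  have hG := c.hyp.good c.facts (zpowers_ne_bot.2 hy1)
  have h4 := hG.four_le_inf hK (barSylow hS hB)
  obtain ⟨κ, hκ, hκ1⟩ : ∃ κ ∈ (barSylow hS hB : Subgroup (CBar (zpowers y))) ⊓ K, κ ≠ 1 := by
    by_contra hc
    push Not at hc
    rw [(eq_bot_iff_forall _).2 hc, card_bot] at h4
    omega
  obtain ⟨⟨x, hxC⟩, hx, hxκ⟩ := (mem_barSylow hS hB).1 hκ.1
  have hx2 : x ^ 2 = 1 := by
    refine eq_one_of_mem_coreC (pow_mem hx 2) ((proj_eq_one_iff (pow_mem hxC 2)).1 ?_)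
    rw [show (⟨x ^ 2, pow_mem hxC 2⟩ : ↥(centralizer ((zpowers y : Subgroup G) : Set G))) =
      ⟨x, hxC⟩ ^ 2 from rfl, map_pow, hxκ, pow_two]
    exact hG.elementary hK _ hκ.1 hκ.2
  have hx1 : x ≠ 1 := fun e => hκ1 (by
    rw [← hxκ]; exact (proj_eq_one_iff hxC).2 (e ▸ one_mem _))
  -- every involution of `S` is a square in `S`
  obtain ⟨n, hn, hnx⟩ := c.jr.trans y hyA hy1 x ((mem_Om hS).2 ⟨hx, hx2⟩) hx1
  set r := n * s ^ 2 ^ j * n⁻¹ with hr
  have hrS : r ∈ (S : Subgroup G) := conj_mem_sylow hn (pow_mem hs _)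
  have hrx : r ^ 2 = x := by rw [hr, conj_pow, ← pow_mul, ← pow_succ, ← hy, hnx]
  have hrC := centralizer_Om_mem hrS hS hB
  obtain ⟨k', hk', c', hc', he⟩ := hG.exists_split hK (barSylow hS hB) (proj_mem_barSylow hS hB hrS)
  have hκc : κ = c' * c' := by
    have h1 : (⟨x, hxC⟩ : ↥(centralizer ((zpowers y : Subgroup G) : Set G))) = ⟨r, hrC⟩ ^ 2 :=
      Subtype.ext hrx.symm
    rw [← hxκ, h1, map_pow, he, (show Commute k' c' from hG.comm _ hk'.1 hc'.1).mul_pow, pow_two,
      pow_two, hG.elementary hK _ hk'.1 hk'.2, one_mul]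
  exact hκ1 (hG.inf_centralizer hK hκ.2 (hκc ▸ mul_mem hc'.2 hc'.2))

theorem mem_iff {x : G} : x ∈ (S : Subgroup G) ↔ x ∈ Om S := by rw [← c.sylow_eq]

theorem sq {a : G} (ha : a ∈ (S : Subgroup G)) : a * a = 1 := sq_Om c.comm (c.mem_iff.1 ha)

theorem card : Nat.card ↥(S : Subgroup G) = 8 := by rw [c.sylow_eq, c.jr.card]

theorem not_solvable {a : G} (ha : a ∈ Om S) (ha1 : a ≠ 1) :
    ¬ Group.IsSolvable ↥(centralizer ({a} : Set G)) := by
  intro hs
  obtain ⟨K, hK⟩ := c.exists_component ha ha1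
  haveI := hs
  haveI : Group.IsSolvable ↥(centralizer ((zpowers a : Subgroup G) : Set G)) := by
    rw [centralizer_zpowers]; exact hs
  haveI : Group.IsSolvable (CBar (zpowers a)) := Group.isSolvable_of_surjective (proj_surjective _)
  exact JRBal.not_solvable_of_component hK inferInstance

theorem exists_conj {a b : G} (ha : a ∈ Om S) (ha1 : a ≠ 1) (hb : b ∈ Om S) (hb1 : b ≠ 1) :
    ∃ n ∈ normalizer ((S : Subgroup G) : Set G), n * a * n⁻¹ = b :=
  c.jr.trans a ha ha1 b hb hb1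

/-- No proper subgroup contains `N(S)` and the centraliser of an involution of `S`. -/
theorem no_container {t : G} (ht : t ∈ Om S) (ht1 : t ≠ 1) {M : Subgroup G} (hM : M ≠ ⊤)
    (hN : normalizer ((S : Subgroup G) : Set G) ≤ M) (hC : centralizer ({t} : Set G) ≤ M) :
    False := by
  refine c.not_solvable ht ht1 ?_
  haveI : Group.IsSolvable ↥M := by
    refine solvable_of_centralizers_le c.split c.comm (by rw [c.jr.card]; norm_num) hM hN
      fun a ha ha1 g hg => ?_
    obtain ⟨n, hn, rfl⟩ := c.exists_conj ht ht1 ha ha1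
    have h : n⁻¹ * g * n ∈ centralizer ({t} : Set G) := by
      rw [mem_centralizer_singleton_iff] at hg ⊢
      calc n⁻¹ * g * n * t = n⁻¹ * (g * (n * t * n⁻¹)) * n := by group
        _ = n⁻¹ * (n * t * n⁻¹ * g) * n := by rw [hg]
        _ = t * (n⁻¹ * g * n) := by group
    have := mul_mem (mul_mem (hN hn) (hC h)) (inv_mem (hN hn))
    simpa [mul_assoc] using this
  exact Group.isSolvable_of_isSolvable_injective (f := inclusion hC) (inclusion_injective hC)

theorem sylow_le_normalizer_core {a : G} (ha : a ∈ (S : Subgroup G)) :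
    (S : Subgroup G) ≤ normalizer (core a : Set G) :=
  (sylow_le_centralizer c.comm (zpowers_le.2 ha)).trans
    ((centralizer_zpowers a).le.trans (centralizer_le_normalizer_core a))

theorem signalizer : Odd (Nat.card ↥(sig S)) ∧
    ∀ a ∈ Om S, a ≠ 1 → sig S ⊓ centralizer ({a} : Set G) = core a := by
  haveI : Fact (Nat.Prime 2) := ⟨Nat.prime_two⟩
  have hS := c.comm
  obtain ⟨h1, h2⟩ := Cfsg.Agent.S0217.result (p := 2) (Om S)
    (fun a ha b hb => comm_Om hS (Om_le S ha) (Om_le S hb))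
    (fun a ha => ((mem_Om hS).1 ha).2) (by rw [c.jr.card]; norm_num) core
    (fun a _ _ => core_le a) (fun a _ _ => (odd_core a).not_two_dvd_nat)
    (fun a ha _ b hb x hx =>
      conj_mem_of_le_normalizer (c.sylow_le_normalizer_core (Om_le S ha) (Om_le S hb)) hx)
    (fun a _ _ => OddOrder.FeitThompson.isSolvable_of_odd_card (odd_core a)) c.bal
  exact ⟨Nat.odd_iff.2 (Nat.two_dvd_ne_zero.1 h1), h2⟩

theorem sig_odd : Odd (Nat.card ↥(sig S)) := c.signalizer.1

theorem sig_inf {a : G} (ha : a ∈ Om S) (ha1 : a ≠ 1) :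
    sig S ⊓ centralizer ({a} : Set G) = core a := c.signalizer.2 a ha ha1

theorem normalizer_le_normalizer_sig :
    normalizer ((S : Subgroup G) : Set G) ≤ normalizer (sig S : Set G) := by
  intro n hn
  have key : ∀ m ∈ normalizer ((S : Subgroup G) : Set G), ∀ x ∈ sig S, m * x * m⁻¹ ∈ sig S := by
    intro m hm x hx
    have hle : (sig S).map (MulAut.conj m).toMonoidHom ≤ sig S := by
      rw [sig, Subgroup.map_iSup]
      refine iSup_le fun a => ?_
      rw [← core_conj]
      exact core_le_sig (conj_mem_Om c.comm hm a.2.1) fun e => a.2.2 (conj_eq_one_iff.1 e)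
    exact hle (mem_map_of_mem _ hx)
  exact mem_normalizer_fintype fun x hx => key n hn x hx

end Ctx

end Cfsg.Agent.Lib.Walter.JRCore
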