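import Cfsg.Agent.Lib.Walter.JRCore.Tools
import Cfsg.Agent.Lib.Walter.JRCore.Setup

/-!
# Section C: a maximal subgroup containing the centraliser of an involution

`H` is maximal with `C(t) ≤ H` and `R = O(H)`: `H = R C(t)`, `R ∩ C(t) = O(C(t))`, and `R` is the
intersection of `H` with the signalizer `W`.
Owner: helper87 (`notes/walter_plan.md`, section C).
-/

set_option autoImplicit false
set_option linter.style.haveILetI false
set_option linter.unusedSectionVars false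

universe u

namespace Cfsg.Agent.Lib.Walter.JRCore

open Subgroup

variable {G : Type u} [Group G] [Finite G]

/-- A maximal subgroup over the centraliser of an involution of `S`. -/
structure Over (S : Sylow 2 G) (t : G) (H : Subgroup G) : Prop where
  ctx : Ctx S
  mem : t ∈ Om S
  ne : t ≠ 1
  proper : H ≠ ⊤
  le : centralizer ({t} : Set G) ≤ H
  max : ∀ M : Subgroup G, M ≠ ⊤ → H ≤ M → M = H

theorem Ctx.centralizer_ne_top {S : Sylow 2 G} (c : Ctx S) {t : G} (ht : t ≠ 1) :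
    centralizer ({t} : Set G) ≠ ⊤ :=
  centralizer_zpowers t ▸ c.hyp.centralizer_ne_top (zpowers_ne_bot.2 ht)

theorem Ctx.exists_over {S : Sylow 2 G} (c : Ctx S) {t : G} (ht : t ∈ Om S) (ht1 : t ≠ 1) :
    ∃ H : Subgroup G, Over S t H := by
  obtain ⟨H, hle, hH⟩ := Finite.exists_le_maximal (p := fun M : Subgroup G => M ≠ ⊤)
    (c.centralizer_ne_top ht1)
  exact ⟨H, c, ht, ht1, hH.prop, hle, fun M hM hHM => le_antisymm (hH.2 hM hHM) hHM⟩

namespace Over

variable {S : Sylow 2 G} {t : G} {H : Subgroup G} (d : Over S t H)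
include d

theorem sylow_le_cent : (S : Subgroup G) ≤ centralizer ({t} : Set G) :=
  (sylow_le_centralizer d.ctx.comm (zpowers_le.2 (Om_le S d.mem))).trans (centralizer_zpowers t).le

theorem sylow_le : (S : Subgroup G) ≤ H := d.sylow_le_cent.trans d.le

theorem not_normalizer_le : ¬ normalizer ((S : Subgroup G) : Set G) ≤ H := fun h =>
  d.ctx.no_container d.mem d.ne d.proper h d.le

/-- `t` is central modulo `O(H)`. -/
theorem central : qm H ⟨t, d.sylow_le (Om_le S d.mem)⟩ ∈ Subgroup.center (Quo H) := by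
  haveI : Fact (Nat.Prime 2) := ⟨Nat.prime_two⟩
  have hSH := d.sylow_le
  have htS := Om_le S d.mem
  have hX := goodQuo d.ctx.hyp d.ctx.facts d.proper
  have h8 := eightQuo hSH (fun a ha => d.ctx.sq ha) d.ctx.card
  set tb := qm H ⟨t, hSH htS⟩ with htb
  have hns : ¬ Group.IsSolvable ↥(centralizer ({tb} : Set (Quo H))) := fun hsol => by
    refine d.ctx.not_solvable d.mem d.ne ?_
    have hmem : ∀ x : ↥(centralizer ({t} : Set G)),
        qm H ⟨x, d.le x.2⟩ ∈ centralizer ({tb} : Set (Quo H)) := fun x =>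
      mem_centralizer_singleton_iff.2 (by
        rw [htb, ← map_mul, ← map_mul]
        exact congrArg _ (Subtype.ext (mem_centralizer_singleton_iff.1 x.2)))
    let f : ↥(centralizer ({t} : Set G)) →* ↥(centralizer ({tb} : Set (Quo H))) :=
      MonoidHom.mk' (fun x => ⟨qm H ⟨x, d.le x.2⟩, hmem x⟩) fun x y => Subtype.ext
        (map_mul (qm H) ⟨x, d.le x.2⟩ ⟨y, d.le y.2⟩)
    refine JRBal.solvable_of_hom f ?_ hsol
    haveI := OddOrder.FeitThompson.isSolvable_of_odd_card (odd_coreIn H)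
    have hker : f.ker.map (centralizer ({t} : Set G)).subtype ≤ Balance.coreIn 2 H := by
      rintro _ ⟨x, hx, rfl⟩
      exact (qm_eq_one_iff (d.le x.2)).1 (congrArg Subtype.val (MonoidHom.mem_ker.1 hx))
    refine OddOrder.FeitThompson.isSolvable_of_odd_card ((odd_coreIn H).of_dvd_nat ?_)
    rw [← card_map_of_injective (centralizer ({t} : Set G)).subtype_injective]
    exact card_dvd_of_le hker
  rcases JRBal.dichotomy hX h8 (qm_mem_quoSylow hSH htS) (qm_ne_one hSH htS d.ne) hns with h | h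
  · exact h.1
  -- otherwise `H` contains `N(S)`
  exfalso
  have hconj : ∀ u ∈ Om S, u ≠ 1 → ∃ h ∈ H, h * t * h⁻¹ = u := by
    intro u hu hu1
    obtain ⟨g, hg⟩ := h.1 (qm H ⟨u, hSH (Om_le S hu)⟩) (qm_mem_quoSylow hSH (Om_le S hu))
      (qm_ne_one hSH (Om_le S hu) hu1)
    obtain ⟨⟨g₀, hg₀⟩, rfl⟩ := qm_surjective H g
    set x := g₀ * t * g₀⁻¹ with hx
    have hxH : x ∈ H := mul_mem (mul_mem hg₀ (hSH htS)) (inv_mem hg₀)
    have hxx : x * x = 1 := by
      rw [hx, show g₀ * t * g₀⁻¹ * (g₀ * t * g₀⁻¹) = g₀ * (t * t) * g₀⁻¹ by group,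
        d.ctx.sq htS, mul_one, mul_inv_cancel]
    have huu := d.ctx.sq (Om_le S hu)
    have hmem : x * u ∈ Balance.coreIn 2 H := by
      refine (qm_eq_one_iff (mul_mem hxH (hSH (Om_le S hu)))).1 ?_
      have e : (⟨x * u, mul_mem hxH (hSH (Om_le S hu))⟩ : ↥H) =
          ⟨g₀, hg₀⟩ * ⟨t, hSH htS⟩ * ⟨g₀, hg₀⟩⁻¹ * ⟨u, hSH (Om_le S hu)⟩ := rfl
      rw [e, map_mul, map_mul, map_mul, map_inv, ← htb, hg, ← map_mul,
        show (⟨u, hSH (Om_le S hu)⟩ : ↥H) * ⟨u, hSH (Om_le S hu)⟩ = 1 from Subtype.ext huu, map_one]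
    obtain ⟨e, he, hex⟩ := Involutions.Basic.exists_conj_of_odd hxx huu
      ((odd_coreIn H).of_dvd_nat (Subgroup.orderOf_dvd_natCard _ hmem))
    have heH : e ∈ H := (closure_le _).2 (by
      rintro y (rfl | rfl)
      · exact hxH
      · exact hSH (Om_le S hu)) he
    refine ⟨e * g₀, mul_mem heH hg₀, ?_⟩
    rw [← hex, hx]
    group
  refine d.not_normalizer_le fun n hn => ?_
  obtain ⟨h', hh', he⟩ := hconj _ (conj_mem_Om d.ctx.comm hn d.mem)
    fun e => d.ne (conj_eq_one_iff.1 e)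
  have hC : h'⁻¹ * n ∈ centralizer ({t} : Set G) := by
    rw [mem_centralizer_singleton_iff]
    calc h'⁻¹ * n * t = h'⁻¹ * (n * t * n⁻¹) * n := by group
      _ = h'⁻¹ * (h' * t * h'⁻¹) * n := by rw [he]
      _ = t * (h'⁻¹ * n) := by group
  simpa using mul_mem hh' (d.le hC)

theorem exists_mul {y : G} (hy : y ∈ H) :
    ∃ r ∈ Balance.coreIn 2 H, ∃ x ∈ centralizer ({t} : Set G), y = r * x := by
  obtain ⟨⟨x, hxH⟩, hxt, hxy⟩ := exists_commute_lift d.sylow_le (Om_le S d.mem) hy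
    (mem_center_iff.1 d.central _).symm
  refine ⟨y * x⁻¹, (qm_eq_one_iff (mul_mem hy (inv_mem hxH))).1 ?_, x,
    mem_centralizer_singleton_iff.2 hxt, by rw [inv_mul_cancel_right]⟩
  show qm H (⟨y, hy⟩ * ⟨x, hxH⟩⁻¹) = 1
  rw [map_mul, map_inv, hxy, mul_inv_cancel]

theorem core_le_coreIn : core t ≤ Balance.coreIn 2 H := by
  have hX := goodQuo d.ctx.hyp d.ctx.facts d.proper
  set D := ((core t).subgroupOf H).map (qm H) with hD
  haveI : D.Normal := by
    refine ⟨?_⟩
    rintro _ ⟨a, ha, rfl⟩ g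
    obtain ⟨⟨y, hy⟩, rfl⟩ := qm_surjective H g
    obtain ⟨r, hr, x, hx, hyx⟩ := d.exists_mul hy
    have hrH := Balance.coreIn_le H hr
    have e : qm H ⟨y, hy⟩ = qm H ⟨x, d.le hx⟩ := by
      have e' : (⟨y, hy⟩ : ↥H) = ⟨r, hrH⟩ * ⟨x, d.le hx⟩ := Subtype.ext hyx
      rw [e', map_mul, (qm_eq_one_iff hrH).2 hr, one_mul]
    refine ⟨⟨x, d.le hx⟩ * a * ⟨x, d.le hx⟩⁻¹, mem_subgroupOf.2 ?_, ?_⟩
    · exact conj_mem_of_le_normalizer (centralizer_le_normalizer_core t hx) (mem_subgroupOf.1 ha)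
    · rw [map_mul, map_mul, map_inv, e]
  have hDo : Odd (Nat.card ↥D) := by
    refine (odd_core t).of_dvd_nat ((card_map_dvd _ _).trans ?_)
    rw [← card_map_of_injective (f := H.subtype) H.subtype_injective]
    exact card_dvd_of_le ((subgroupOf_map_subtype _ H).le.trans inf_le_left)
  have hD1 : D = ⊥ := JRBal.eq_bot_of_odd_normal hX D hDo
  intro a ha
  have haH := d.le (core_le t ha)
  exact (qm_eq_one_iff haH).1 (mem_bot.1 (hD1 ▸ mem_map_of_mem (qm H)
    (show (⟨a, haH⟩ : ↥H) ∈ (core t).subgroupOf H from ha)))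

theorem coreIn_inf_le : Balance.coreIn 2 H ⊓ centralizer ({t} : Set G) ≤ core t :=
  Balance.coreIn_inf_le d.le

/-- `C_R(v) ≤ O(C(v))`. -/
theorem coreIn_inf_le_core {v : G} (hv : v ∈ Om S) (hv1 : v ≠ 1) :
    Balance.coreIn 2 H ⊓ centralizer ({v} : Set G) ≤ core v := by
  haveI : Fact (Nat.Prime 2) := ⟨Nat.prime_two⟩
  by_cases hvt : v = t
  · rw [hvt]; exact d.coreIn_inf_le
  have hS := d.ctx.comm
  have htS := Om_le S d.mem
  have hvS := Om_le S hv
  set C := centralizer ((zpowers v : Subgroup G) : Set G) with hC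
  have hCv : C = centralizer ({v} : Set G) := centralizer_zpowers v
  have hSC : (S : Subgroup G) ≤ C := sylow_le_centralizer hS (zpowers_le.2 hvS)
  have hCtop : C ≠ ⊤ := d.ctx.hyp.centralizer_ne_top (zpowers_ne_bot.2 hv1)
  have hX := goodQuo d.ctx.hyp d.ctx.facts hCtop
  have h8 := eightQuo hSC (fun a ha => d.ctx.sq ha) d.ctx.card
  obtain ⟨K, hK⟩ : ∃ K : Subgroup (Quo C), Cfsg.IsComponent K := d.ctx.exists_component hv hv1
  set vb := qm C ⟨v, hSC hvS⟩ with hvb
  set tb := qm C ⟨t, hSC htS⟩ with htb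
  have hcen : vb ∈ Subgroup.center (Quo C) := mem_center_iff.2 fun g => by
    obtain ⟨x, rfl⟩ := qm_surjective C g
    rw [hvb, ← map_mul, ← map_mul]
    refine congrArg _ (Subtype.ext ?_)
    exact mem_centralizer_singleton_iff.1 (hCv ▸ x.2)
  have hz := central_of hX h8 d.ctx.facts (qm_mem_quoSylow hSC hvS) (qm_ne_one hSC hvS hv1) hcen hK
    (known_component d.ctx.hyp hCtop hK hX)
  set M := Balance.coreIn 2 H ⊓ C with hM
  set D := (M.subgroupOf C).map (qm C) with hD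
  have hDo : Odd (Nat.card ↥D) := by
    refine (odd_coreIn H).of_dvd_nat ((card_map_dvd _ _).trans ?_)
    rw [← card_map_of_injective (f := C.subtype) C.subtype_injective]
    exact card_dvd_of_le ((subgroupOf_map_subtype _ C).le.trans (inf_le_left.trans inf_le_left))
  have hnormM : ∀ x ∈ C, x ∈ H → ∀ y ∈ M, x * y * x⁻¹ ∈ M := fun x hxC hxH y hy =>
    Subgroup.mem_inf.2
    ⟨(Subgroup.mem_normalizer_iff.1 (Balance.le_normalizer_coreIn H hxH) y).1 hy.1,
      mul_mem (mul_mem hxC hy.2) (inv_mem hxC)⟩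
  -- the centraliser of `t` in the quotient normalises `D`
  have hnorm : ∀ g : Quo C, tb * g = g * tb → ∀ y ∈ D, g * y * g⁻¹ ∈ D := by
    rintro g hg _ ⟨a, ha, rfl⟩
    obtain ⟨⟨g₀, hg₀⟩, rfl⟩ := qm_surjective C g
    obtain ⟨x, hxt, hxg⟩ := exists_commute_lift hSC htS hg₀ hg
    refine ⟨x * a * x⁻¹, mem_subgroupOf.2 (hnormM x x.2
      (d.le (mem_centralizer_singleton_iff.2 hxt)) _ (mem_subgroupOf.1 ha)), ?_⟩
    rw [map_mul, map_mul, map_inv, hxg]
  have htH : t ∈ H := d.sylow_le htS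
  -- no fixed point, by balance
  have hfix : ∀ y ∈ D, tb * y = y * tb → y = 1 := by
    rintro _ ⟨⟨a, haC⟩, ha, rfl⟩ he
    have haM : a ∈ M := mem_subgroupOf.1 ha
    set N := Balance.coreIn 2 H ⊓ Balance.coreIn 2 C with hN
    have hNn : zpowers t ≤ normalizer (N : Set G) := zpowers_le.2
      (inf_normalizer_le_normalizer_inf ⟨Balance.le_normalizer_coreIn H htH,
        Balance.le_normalizer_coreIn C (hSC htS)⟩)
    have hcop : (Nat.card ↥(zpowers t)).Coprime (Nat.card ↥N) := by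
      rw [Nat.card_zpowers, orderOf_Om hS d.mem d.ne]
      exact Nat.coprime_two_left.2 ((odd_coreIn C).of_dvd_nat (card_dvd_of_le inf_le_right))
    obtain ⟨n, hn, hnt⟩ := Coprime.exists_fixed_mul hNn hcop
      (Or.inl (Coprime.isSolvable_zpowers t)) (k := a) fun b hb => by
        obtain ⟨i, rfl⟩ := mem_zpowers_iff.1 hb
        have hbH : t ^ i ∈ H := zpow_mem htH i
        have hbC : t ^ i ∈ C := zpow_mem (hSC htS) i
        refine Subgroup.mem_inf.2 ⟨mul_mem (conj_mem_of_le_normalizer (Balance.le_normalizer_coreIn H hbH) haM.1)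
          (inv_mem haM.1), ?_⟩
        refine (qm_eq_one_iff (mul_mem (mul_mem (mul_mem hbC haC) (inv_mem hbC)) (inv_mem haC))).1 ?_
        show qm C (⟨t, hSC htS⟩ ^ i * ⟨a, haC⟩ * (⟨t, hSC htS⟩ ^ i)⁻¹ * ⟨a, haC⟩⁻¹) = 1
        rw [map_mul, map_mul, map_mul, map_inv, map_inv, map_zpow, ← htb,
          ((show Commute tb (qm C ⟨a, haC⟩) from he).zpow_left i).eq, mul_inv_cancel_right,
          mul_inv_cancel]
    have hnt' : n * a ∈ centralizer ({t} : Set G) := mem_centralizer_singleton_iff.2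
      (mem_centralizer_iff.1 hnt t (mem_zpowers t)).symm
    have hnC : n ∈ C := Balance.coreIn_le C hn.2
    have hna : n * a ∈ core v := d.ctx.bal t d.mem d.ne v hv hv1
      ⟨d.coreIn_inf_le ⟨mul_mem hn.1 haM.1, hnt'⟩, hCv ▸ mul_mem hnC haC⟩
    have hn' : n ∈ Balance.coreIn 2 C := hn.2
    rw [← coreC_zpowers] at hna
    refine (qm_eq_one_iff haC).2 ?_
    have h := mul_mem (inv_mem hn') (show n * a ∈ Balance.coreIn 2 C from hna)
    rwa [inv_mul_cancel_left] at h
  have htbT := qm_mem_quoSylow hSC htS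
  have htb2 : tb * tb = 1 := h8.sq _ htbT
  have hinv := inverts_of_fixed_bot (O := D) htb2
    (fun y hy => hnorm tb rfl y hy) hfix
  -- so `D` lies in the component and is inverted by the projection of `t`
  obtain ⟨w, hw, htw⟩ := hz.split htbT
  have hw1 : w ≠ 1 := hz.ne_one_of htw (qm_ne_one hSC htS d.ne)
    fun e => hvt (qm_injective_sylow hSC htS hvS e).symm
  have hDK : D ≤ K := fun y hy => hz.mem_of_inverted
    (hDo.of_dvd_nat (Subgroup.orderOf_dvd_natCard _ hy)) htbT (hinv y hy)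
  have hcv : ∀ g : Quo C, g * tb = tb * g ↔ g * w = w * g := hz.comm_iff htw
  have hwy : ∀ y ∈ D, w * y * w⁻¹ = y⁻¹ := fun y hy => by
    rcases htw with e | e
    · rw [← e]; exact hinv y hy
    · calc w * y * w⁻¹ = w * (vb * y * vb⁻¹) * w⁻¹ := by
            rw [← mem_center_iff.1 hcen y, mul_inv_cancel_right]
        _ = w * vb * y * (w * vb)⁻¹ := by group
        _ = tb * y * tb⁻¹ := by rw [htb, hvb, ← e]
        _ = y⁻¹ := hinv y hy
  have hbot : D.subgroupOf K = ⊥ := by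
    refine hz.facts.inverted ⟨w, hw.2⟩ (hz.orderOf_four hw hw1) _ ?_ ?_ ?_
    · rwa [Nat.card_congr (subgroupOfEquivOfLe hDK).toEquiv]
    · intro y hy
      exact Subtype.ext (hwy y (mem_subgroupOf.1 hy))
    · intro x hx y hy
      exact mem_subgroupOf.2
        (hnorm x (((hcv x).2 (congrArg Subtype.val hx)).symm) y (mem_subgroupOf.1 hy))
  intro a ha
  have haC : a ∈ C := hCv ▸ ha.2
  have hy : qm C ⟨a, haC⟩ ∈ D := mem_map_of_mem _ (mem_subgroupOf.2 ⟨ha.1, haC⟩)
  have h1 : (⟨_, hDK hy⟩ : ↥K) ∈ D.subgroupOf K := mem_subgroupOf.2 hy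
  rw [hbot, mem_bot] at h1
  rw [← coreC_zpowers]
  exact (qm_eq_one_iff haC).1 (congrArg Subtype.val h1)

theorem coreIn_le_sig : Balance.coreIn 2 H ≤ sig S := by
  refine le_of_hyperplanes d.ctx.comm (odd_coreIn H)
    (((Om_le S).trans d.sylow_le).trans (Balance.le_normalizer_coreIn H)) fun B hB hidx => ?_
  obtain ⟨v, hv, hv1⟩ : ∃ v ∈ B, v ≠ 1 := by
    by_contra hc
    push Not at hc
    rw [(eq_bot_iff_forall B).2 hc, relIndex_bot_left, d.ctx.jr.card] at hidx
    omega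
  refine (le_inf inf_le_left (inf_le_right.trans ?_)).trans
    ((d.coreIn_inf_le_core (hB hv) hv1).trans (core_le_sig (hB hv) hv1))
  exact centralizer_le (Set.singleton_subset_iff.2 hv)

/-- `W ∩ H = R`. -/
theorem sig_inf_eq : sig S ⊓ H = Balance.coreIn 2 H := by
  refine le_antisymm (fun y hy => ?_) (le_inf d.coreIn_le_sig (Balance.coreIn_le H))
  obtain ⟨r, hr, x, hx, rfl⟩ := d.exists_mul hy.2
  refine mul_mem hr (d.core_le_coreIn ?_)
  rw [← d.ctx.sig_inf d.mem d.ne]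
  refine ⟨?_, hx⟩
  simpa using mul_mem (inv_mem (d.coreIn_le_sig hr)) hy.1

end Over

end Cfsg.Agent.Lib.Walter.JRCore
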